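import Mathlib.RingTheory.AdicCompletion.Basic
import Groth.Prelude.Def_GrMap
import Groth.Prelude.Def_AssocGrMod
/-!
Successive approximation for adic and filtered rings/modules.
-/
universe u
open Polynomial
noncomputable section

namespace Groth.Agent.AdicLift

theorem mem_of_smodEq {A : Type u} [CommRing A] {I : Ideal A} {n : ℕ} {x y : A} :
    x ≡ y [SMOD (I ^ n • ⊤ : Submodule A A)] ↔ x - y ∈ I ^ n := by
  rw [SModEq.sub_mem, smul_eq_mul, Ideal.mul_top]

theorem exists_limit {A : Type u} [CommRing A] (I : Ideal A) [IsPrecomplete I A] (f : ℕ → A)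
    (hf : ∀ m, f (m + 1) - f m ∈ I ^ m) : ∃ L, ∀ m, L - f m ∈ I ^ m := by
  have h : ∀ {m n}, m ≤ n → f m - f n ∈ I ^ m := by
    intro m n hmn
    induction hmn with
    | refl => simp
    | @step k hk ih =>
      have h2 := Ideal.pow_le_pow_right hk (hf k)
      have := sub_mem ih h2
      rwa [sub_sub, add_sub_cancel] at this
  obtain ⟨L, hL⟩ := IsPrecomplete.prec (I := I) (M := A) ‹_› (f := f) (fun {m n} hmn => mem_of_smodEq.2 (h hmn))
  refine ⟨L, fun m => ?_⟩
  have h2 := mem_of_smodEq.1 (hL m)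
  have := neg_mem h2
  rwa [neg_sub] at this

section Ring

variable {A B : Type u} [CommRing A] [CommRing B] (φ : A →+* B) (I : Ideal A) (J : Ideal B)
  (hIJ : I.map φ ≤ J) (hs : Function.Surjective (AssocGr.map (AssocGr.IsFiltHom.adic hIJ)))

include hs in
theorem step {n : ℕ} {b : B} (hb : b ∈ J ^ n) : ∃ a ∈ I ^ n, b - φ a ∈ J ^ (n + 1) := by
  let 𝓖 := FiltBl.IdealFiltration.adic J
  obtain ⟨x, hx⟩ := hs (AssocGr.inDeg 𝓖 n ⟨b, hb⟩ : AssocGr.GrRing 𝓖)
  obtain ⟨f, rfl⟩ := AssocGr.mkG_surjective _ x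
  rw [AssocGr.map_mkG, AssocGr.coe_inDeg, ← sub_eq_zero, ← map_sub, AssocGr.mkG_eq_zero_iff] at hx
  have h2 := hx n
  rw [Subalgebra.coe_sub, coeff_sub, AssocGr.coe_reesMap, coeff_map, AssocGr.coe_coe_monom,
    coeff_monomial, if_pos rfl] at h2
  refine ⟨((f : A[X]).coeff n), f.2 n, ?_⟩
  have h3 := neg_mem h2
  rw [neg_sub] at h3
  exact h3

include hIJ hs in
theorem exists_lift [IsPrecomplete I A] [IsHausdorff J B] {k : ℕ} {b : B} (hb : b ∈ J ^ k) :
    ∃ a ∈ I ^ k, φ a = b := by
  classical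
  have hst : ∀ (n : ℕ) (c : B), ∃ a : A, c ∈ J ^ n → a ∈ I ^ n ∧ c - φ a ∈ J ^ (n + 1) := fun n c => by
    by_cases hc : c ∈ J ^ n
    · obtain ⟨a, ha⟩ := step φ I J hIJ hs hc
      exact ⟨a, fun _ => ha⟩
    · exact ⟨0, fun h => absurd h hc⟩
  choose g hg using hst
  let s : ℕ → A := fun n => Nat.rec 0 (fun n sn => sn + g (k + n) (b - φ sn)) n
  have hs' : ∀ n, s (n + 1) = s n + g (k + n) (b - φ (s n)) := fun n => rfl
  have hinv : ∀ n, b - φ (s n) ∈ J ^ (k + n) := by
    intro n
    induction n with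
    | zero => simpa [s] using hb
    | succ n ih =>
      rw [hs', map_add, ← sub_sub]
      exact (hg _ _ ih).2
  have hmem : ∀ n, s n ∈ I ^ k := by
    intro n
    induction n with
    | zero => simp [s]
    | succ n ih =>
      rw [hs']
      exact add_mem ih (Ideal.pow_le_pow_right (Nat.le_add_right k n) (hg _ _ (hinv n)).1)
  obtain ⟨L, hL⟩ := exists_limit I s (fun n => by
    rw [hs', add_sub_cancel_left]
    exact Ideal.pow_le_pow_right (Nat.le_add_left n k) (hg _ _ (hinv n)).1)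
  refine ⟨L, ?_, ?_⟩
  · have := add_mem (hL k) (hmem k)
    rwa [sub_add_cancel] at this
  · have hz : φ L - b = 0 := IsHausdorff.haus ‹IsHausdorff J B› _ fun m => by
      rw [mem_of_smodEq, sub_zero]
      have h1 : φ (L - s m) ∈ J ^ m := AssocGr.IsFiltHom.adic hIJ m (hL m)
      have h2 : b - φ (s m) ∈ J ^ m := Ideal.pow_le_pow_right (Nat.le_add_left m k) (hinv m)
      have := sub_mem h1 h2
      rwa [map_sub, sub_sub_sub_cancel_right] at this
    exact sub_eq_zero.1 hz

end Ring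

section Mod

variable {A : Type u} [CommRing A] {I : Ideal A} {M : Type u} [AddCommGroup M] [Module A M]
  (F : I.Filtration M)

theorem mem_pow_smul {p q : ℕ} {c : A} {x : M} (hc : c ∈ I ^ p) (hx : x ∈ F.N q) :
    c • x ∈ F.N (p + q) :=
  F.pow_smul_le p q (Submodule.smul_mem_smul hc hx)

variable [Module.Finite (AssocGr.GrRing (FiltBl.IdealFiltration.adic I)) (AssocGr.GrMod F)]

theorem exists_gens : ∃ (ι : Type u) (_ : Fintype ι) (q : ι → ℕ) (x : ι → M), (∀ i, x i ∈ F.N (q i)) ∧
    ∀ n, ∀ z ∈ F.N n, ∃ c : ι → A, (∀ i, c i ∈ I ^ (n - q i)) ∧ (∀ i, n < q i → c i = 0) ∧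
      z - ∑ i, c i • x i ∈ F.N (n + 1) := by
  classical
  obtain ⟨N, s, hspan⟩ := Module.Finite.exists_fin (R := AssocGr.GrRing (FiltBl.IdealFiltration.adic I))
    (M := AssocGr.GrMod F)
  choose y hy using fun j => AssocGr.mkGM_surjective F (s j)
  let S : Finset ℕ := Finset.univ.biUnion fun j =>
    ((AssocGr.toReesM F).symm (y j) : PolynomialModule A M).coeff.support
  refine ⟨ULift.{u} (Fin N × S), inferInstance, fun i => i.down.2.1,
    fun i => AssocGr.ReesM.coeff F (y i.down.1) i.down.2.1,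
    fun i => AssocGr.ReesM.coeff_mem F _ _, fun n z hz => ?_⟩
  have hmem : AssocGr.mkGM F (AssocGr.monomM F n ⟨z, hz⟩) ∈
      Submodule.span (AssocGr.GrRing (FiltBl.IdealFiltration.adic I)) (Set.range s) := by
    rw [hspan]; trivial
  obtain ⟨g, hg⟩ := (Submodule.mem_span_range_iff_exists_fun _).1 hmem
  choose f hf using fun j => AssocGr.mkG_surjective (FiltBl.IdealFiltration.adic I) (g j)
  have h0 : AssocGr.monomM F n ⟨z, hz⟩ - ∑ j, f j • y j ∈ AssocGr.succMod F := by
    rw [← AssocGr.mkGM_eq_zero_iff, map_sub, map_sum, sub_eq_zero, ← hg]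
    refine Finset.sum_congr rfl fun j _ => ?_
    rw [← hf, ← hy, AssocGr.mkG_smul_mkGM]
  have h1 := h0 n
  rw [← AssocGr.ReesM.coeffHom_apply, map_sub, map_sum] at h1
  simp only [AssocGr.ReesM.coeffHom_apply, AssocGr.ReesM.coeff_monomM, if_pos rfl,
    AssocGr.ReesM.coeff_smul, ↓reduceIte] at h1
  let c : ULift.{u} (Fin N × S) → A := fun i =>
    if i.down.2.1 ≤ n then (f i.down.1 : A[X]).coeff (n - i.down.2.1) else 0
  refine ⟨c, fun i => ?_, fun i hi => if_neg (by simp only at hi; omega), ?_⟩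
  · simp only [c]
    split_ifs
    · exact (f i.down.1).2 _
    · exact zero_mem _
  · convert h1 using 2
    rw [← Equiv.sum_comp Equiv.ulift.symm, Fintype.sum_prod_type]
    refine Finset.sum_congr rfl fun j _ => ?_
    rw [← Finset.Nat.sum_antidiagonal_swap, Finset.Nat.sum_antidiagonal_eq_sum_range_succ_mk]
    simp only [Prod.swap_prod_mk, Equiv.ulift_symm_apply, c, ite_smul, zero_smul]
    rw [Finset.univ_eq_attach, Finset.sum_attach S (fun q => if q ≤ n then
      (f j : A[X]).coeff (n - q) • AssocGr.ReesM.coeff F (y j) q else 0)]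
    rw [← Finset.sum_filter]
    refine Finset.sum_subset (fun q hq => ?_) (fun q hq hq' => ?_)
    · rw [Finset.mem_filter] at hq
      exact Finset.mem_range.2 (by omega)
    · have hqS : q ∉ S := fun h => hq' (Finset.mem_filter.2 ⟨h, by simp at hq; omega⟩)
      have : AssocGr.ReesM.coeff F (y j) q = 0 := by
        by_contra hne
        exact hqS (Finset.mem_biUnion.2 ⟨j, Finset.mem_univ _, Finsupp.mem_support_iff.2 hne⟩)
      rw [this, smul_zero]

theorem finite_of_gr [IsPrecomplete I A] (h0 : F.N 0 = ⊤) (hsep : ⨅ n, F.N n = ⊥) :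
    Module.Finite A M := by
  classical
  obtain ⟨ι, _, q, x, hx, hst⟩ := exists_gens F
  refine Module.Finite.of_surjective (Fintype.linearCombination A x) fun z => ?_
  have hst' : ∀ n z, ∃ c : ι → A, z ∈ F.N n → (∀ i, c i ∈ I ^ (n - q i)) ∧ (∀ i, n < q i → c i = 0) ∧
      z - ∑ i, c i • x i ∈ F.N (n + 1) := fun n z => by
    by_cases hz : z ∈ F.N n
    · obtain ⟨c, hc⟩ := hst n z hz
      exact ⟨c, fun _ => hc⟩
    · exact ⟨0, fun h => absurd h hz⟩
  choose c hc using hst'
  let S : ℕ → ι → A := fun n => Nat.rec 0 (fun n Sn => Sn + c n (z - ∑ i, Sn i • x i)) n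
  have hS : ∀ n, S (n + 1) = S n + c n (z - ∑ i, S n i • x i) := fun n => rfl
  have hinv : ∀ n, z - ∑ i, S n i • x i ∈ F.N n := by
    intro n
    induction n with
    | zero => rw [h0]; trivial
    | succ n ih =>
      have := (hc n _ ih).2.2
      simp only [hS, Pi.add_apply, add_smul, Finset.sum_add_distrib, ← sub_sub]
      exact this
  have hsmall : ∀ i n, n ≤ q i → S n i = 0 := by
    intro i n
    induction n with
    | zero => intro _; rfl
    | succ n ih =>
      intro hn
      rw [hS, Pi.add_apply, ih (by omega), (hc n _ (hinv n)).2.1 i (by omega), add_zero]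
  have hlim : ∀ i, ∃ L, ∀ m, L - S (m + q i) i ∈ I ^ m := fun i => exists_limit I _ fun m => by
    have := (hc (m + q i) _ (hinv _)).1 i
    rw [Nat.add_sub_cancel] at this
    rw [show m + 1 + q i = m + q i + 1 by omega, hS, Pi.add_apply, add_sub_cancel_left]
    exact this
  choose L hL using hlim
  refine ⟨L, ?_⟩
  rw [Fintype.linearCombination_apply]
  symm
  rw [← sub_eq_zero, ← Submodule.mem_bot A, ← hsep, Submodule.mem_iInf]
  intro n
  have : z - ∑ i, L i • x i = (z - ∑ i, S n i • x i) - ∑ i, (L i - S n i) • x i := by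
    simp only [sub_smul, Finset.sum_sub_distrib]; abel
  rw [this]
  refine sub_mem (hinv n) (Submodule.sum_mem _ fun i _ => ?_)
  by_cases hn : q i ≤ n
  · have h := hL i (n - q i)
    rw [Nat.sub_add_cancel hn] at h
    have h2 := mem_pow_smul F h (hx i)
    rwa [Nat.sub_add_cancel hn] at h2
  · exact F.antitone (Nat.le_of_not_le hn) ((F.N (q i)).smul_mem _ (hx i))

end Mod

end Groth.Agent.AdicLift
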