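import Groth.Agent.AdicLift.Basic
/-!
Generators of submodules from generators of the associated graded module.
-/
universe u
set_option linter.style.haveILetI false

namespace Groth.Agent.AdicLift

variable {A : Type u} [CommRing A] {I : Ideal A} {M : Type u} [AddCommGroup M] [Module A M]
  (F : I.Filtration M) {ι : Type*} [Fintype ι] (d : ι → ℕ) (x : (i : ι) → F.N (d i))

theorem exists_coeff {n : ℕ} {z : M} (hz : z ∈ F.N n)
    (h : (AssocGr.inDegM F n ⟨z, hz⟩ : AssocGr.GrMod F) ∈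
      Submodule.span (AssocGr.GrRing (FiltBl.IdealFiltration.adic I))
        (Set.range fun i => (AssocGr.inDegM F (d i) (x i) : AssocGr.GrMod F))) :
    ∃ c : ι → A, (∀ i, c i ∈ I ^ (n - d i)) ∧ (∀ i, n < d i → c i = 0) ∧
      z - ∑ i, c i • (x i : M) ∈ F.N (n + 1) := by
  classical
  obtain ⟨g, hg⟩ := (Submodule.mem_span_range_iff_exists_fun _).1 h
  choose f hf using fun j => AssocGr.mkG_surjective (FiltBl.IdealFiltration.adic I) (g j)
  have h0 : AssocGr.monomM F n ⟨z, hz⟩ - ∑ j, f j • AssocGr.monomM F (d j) (x j) ∈ AssocGr.succMod F := by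
    rw [← AssocGr.mkGM_eq_zero_iff, map_sub, map_sum, sub_eq_zero, ← AssocGr.coe_inDegM, ← hg]
    refine Finset.sum_congr rfl fun j _ => ?_
    rw [← hf, AssocGr.coe_inDegM, AssocGr.mkG_smul_mkGM]
  have h1 := h0 n
  rw [← AssocGr.ReesM.coeffHom_apply, map_sub, map_sum] at h1
  simp only [AssocGr.ReesM.coeffHom_apply, AssocGr.ReesM.coeff_monomM, if_pos rfl,
    AssocGr.ReesM.coeff_smul, ↓reduceIte] at h1
  let c : ι → A := fun i => if d i ≤ n then (f i : Polynomial A).coeff (n - d i) else 0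
  refine ⟨c, fun i => ?_, fun i hi => if_neg (by omega), ?_⟩
  · simp only [c]
    split_ifs
    · exact (f i).2 _
    · exact zero_mem _
  · convert h1 using 2
    refine Finset.sum_congr rfl fun j _ => ?_
    rw [← Finset.Nat.sum_antidiagonal_swap, Finset.Nat.sum_antidiagonal_eq_sum_range_succ_mk]
    simp only [Prod.swap_prod_mk, c, ite_smul, zero_smul, smul_ite, smul_zero]
    rw [Finset.sum_ite_eq]
    simp only [Finset.mem_range, Nat.lt_succ_iff]

theorem mem_span_of_approx [IsPrecomplete I A] (h0 : F.N 0 = ⊤) (hsep : ⨅ n, F.N n = ⊥) (M' : Submodule A M)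
    (hx : ∀ i, (x i : M) ∈ M')
    (h : ∀ (n : ℕ) (z : M) (hz : z ∈ F.N n), z ∈ M' → (AssocGr.inDegM F n ⟨z, hz⟩ : AssocGr.GrMod F) ∈
      Submodule.span (AssocGr.GrRing (FiltBl.IdealFiltration.adic I))
        (Set.range fun i => (AssocGr.inDegM F (d i) (x i) : AssocGr.GrMod F))) :
    M' ≤ Submodule.span A (Set.range fun i => (x i : M)) := by
  classical
  intro z hzM
  have hst : ∀ n w, ∃ c : ι → A, (w ∈ F.N n ∧ w ∈ M') → (∀ i, c i ∈ I ^ (n - d i)) ∧
      (∀ i, n < d i → c i = 0) ∧ w - ∑ i, c i • (x i : M) ∈ F.N (n + 1) := fun n w => by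
    by_cases hw : w ∈ F.N n ∧ w ∈ M'
    · obtain ⟨c, hc⟩ := exists_coeff F d x hw.1 (h n w hw.1 hw.2)
      exact ⟨c, fun _ => hc⟩
    · exact ⟨0, fun h => absurd h hw⟩
  choose c hc using hst
  let S : ℕ → ι → A := fun n => Nat.rec 0 (fun n Sn => Sn + c n (z - ∑ i, Sn i • (x i : M))) n
  have hS : ∀ n, S (n + 1) = S n + c n (z - ∑ i, S n i • (x i : M)) := fun n => rfl
  have hM : ∀ n, z - ∑ i, S n i • (x i : M) ∈ M' := fun n =>
    sub_mem hzM (Submodule.sum_mem _ fun i _ => M'.smul_mem _ (hx i))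
  have hinv : ∀ n, z - ∑ i, S n i • (x i : M) ∈ F.N n := by
    intro n
    induction n with
    | zero => rw [h0]; trivial
    | succ n ih =>
      have := (hc n _ ⟨ih, hM n⟩).2.2
      simp only [hS, Pi.add_apply, add_smul, Finset.sum_add_distrib, ← sub_sub]
      exact this
  have hsmall : ∀ i n, n ≤ d i → S n i = 0 := by
    intro i n
    induction n with
    | zero => intro _; rfl
    | succ n ih =>
      intro hn
      rw [hS, Pi.add_apply, ih (by omega), (hc n _ ⟨hinv n, hM n⟩).2.1 i (by omega), add_zero]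
  have hlim : ∀ i, ∃ L, ∀ m, L - S (m + d i) i ∈ I ^ m := fun i => exists_limit I _ fun m => by
    have := (hc (m + d i) _ ⟨hinv _, hM _⟩).1 i
    rw [Nat.add_sub_cancel] at this
    rw [show m + 1 + d i = m + d i + 1 by omega, hS, Pi.add_apply, add_sub_cancel_left]
    exact this
  choose L hL using hlim
  refine (Submodule.mem_span_range_iff_exists_fun A).2 ⟨L, ?_⟩
  symm
  rw [← sub_eq_zero, ← Submodule.mem_bot A, ← hsep, Submodule.mem_iInf]
  intro n
  have : z - ∑ i, L i • (x i : M) = (z - ∑ i, S n i • (x i : M)) - ∑ i, (L i - S n i) • (x i : M) := by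
    simp only [sub_smul, Finset.sum_sub_distrib]; abel
  rw [this]
  refine sub_mem (hinv n) (Submodule.sum_mem _ fun i _ => ?_)
  by_cases hn : d i ≤ n
  · have h' := hL i (n - d i)
    rw [Nat.sub_add_cancel hn] at h'
    have h2 := mem_pow_smul F h' (x i).2
    rwa [Nat.sub_add_cancel hn] at h2
  · exact F.antitone (Nat.le_of_not_le hn) ((F.N (d i)).smul_mem _ (x i).2)

theorem noetherian_and_closed [IsPrecomplete I A] (h0 : F.N 0 = ⊤) (hsep : ⨅ n, F.N n = ⊥)
    [IsNoetherian (AssocGr.GrRing (FiltBl.IdealFiltration.adic I)) (AssocGr.GrMod F)] :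
    IsNoetherian A M ∧ ∀ M' : Submodule A M, ⨅ n, M' ⊔ F.N n = M' := by
  classical
  have key : ∀ M' : Submodule A M, ∃ s : Finset M, (↑s : Set M) ⊆ M' ∧
      ⨅ n, M' ⊔ F.N n ≤ Submodule.span A (↑s : Set M) := by
    intro M'
    let G : Set (AssocGr.GrMod F) := {g | ∃ (n : ℕ) (z : F.N n), (z : M) ∈ M' ∧
      (AssocGr.inDegM F n z : AssocGr.GrMod F) = g}
    obtain ⟨t, htG, hts⟩ := (Submodule.fg_span_iff_fg_span_finset_subset (R := AssocGr.GrRing (FiltBl.IdealFiltration.adic I)) G).1 (IsNoetherian.noetherian _)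
    choose n y hy hyt using fun g : t => htG g.2
    refine ⟨Finset.univ.image fun g : t => (y g : M), ?_, ?_⟩
    · intro m hm
      obtain ⟨g, -, rfl⟩ := Finset.mem_image.1 hm
      exact hy g
    rw [Finset.coe_image, Finset.coe_univ, Set.image_univ]
    refine mem_span_of_approx F n y h0 hsep _ (fun g => Submodule.mem_iInf _ |>.2 fun k =>
      Submodule.mem_sup_left (hy g)) fun k z hz hzM => ?_
    obtain ⟨w, hw, v, hv, rfl⟩ := Submodule.mem_sup.1 ((Submodule.mem_iInf _).1 hzM (k + 1))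
    have hwk : w ∈ F.N k := by
      have := sub_mem hz (F.antitone (Nat.le_succ k) hv)
      rwa [add_sub_cancel_right] at this
    have he : (AssocGr.inDegM F k ⟨w + v, hz⟩ : AssocGr.GrMod F) = AssocGr.inDegM F k ⟨w, hwk⟩ := by
      rw [show (⟨w + v, hz⟩ : F.N k) = ⟨w, hwk⟩ + ⟨v, F.antitone (Nat.le_succ k) hv⟩ from rfl, map_add,
        AddSubgroup.coe_add, (AssocGr.inDegM_eq_zero_iff F k ⟨v, F.antitone (Nat.le_succ k) hv⟩).2 hv,
        ZeroMemClass.coe_zero, add_zero]
    rw [he]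
    have hG : (AssocGr.inDegM F k ⟨w, hwk⟩ : AssocGr.GrMod F) ∈
        Submodule.span (AssocGr.GrRing (FiltBl.IdealFiltration.adic I)) G :=
      Submodule.subset_span ⟨k, ⟨w, hwk⟩, hw, rfl⟩
    refine Submodule.span_mono ?_ (hts ▸ hG)
    exact fun g hg => ⟨⟨g, hg⟩, hyt _⟩
  refine ⟨⟨fun M' => ?_⟩, fun M' => le_antisymm ?_ (le_iInf fun n => le_sup_left)⟩
  · obtain ⟨s, hs, hle⟩ := key M'
    exact ⟨s, le_antisymm (Submodule.span_le.2 hs) ((le_iInf fun n => le_sup_left).trans hle)⟩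
  · obtain ⟨s, hs, hle⟩ := key M'
    exact hle.trans (Submodule.span_le.2 hs)

end Groth.Agent.AdicLift
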